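import Cfsg.Agent.H700.PsuRow.Wn
import Cfsg.Agent.H93.PReg.Num

/-!
# Arithmetic for the unitary row of S4883
-/

set_option autoImplicit false

namespace Cfsg.Agent.H700.PsuRow

open Finset

/-- `(|(-q)^n - 1|)/(q + 1)` -/
def nn (q n : ℕ) : ℕ := (∑ i ∈ Finset.range n, (-(q : ℤ)) ^ i).natAbs

theorem nn_mul (q n : ℕ) : nn q n * (q + 1) = wn q n := wn_eq_sum q n

theorem wn_le {q m : ℕ} (hq : 1 ≤ q) : wn q m ≤ q ^ m + 1 := by
  rcases Nat.even_or_odd m with h | h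
  · rw [wn_even hq h]; omega
  · rw [wn_odd h]

theorem le_wn {q m : ℕ} (hq : 1 ≤ q) : q ^ m - 1 ≤ wn q m := by
  rcases Nat.even_or_odd m with h | h
  · rw [wn_even hq h]
  · rw [wn_odd h]; omega

theorem dvd_wn_iff {p q i : ℕ} : p ∣ wn q i ↔ (-(q : ZMod p)) ^ i = 1 := by
  rw [natCast_dvd_iff, ← ZMod.intCast_zmod_eq_zero_iff_dvd]
  push_cast
  rw [sub_eq_zero]

theorem dvd_gcd {p q i j : ℕ} (hi : p ∣ wn q i) (hj : p ∣ wn q j) : p ∣ wn q (Nat.gcd i j) := by
  rw [dvd_wn_iff] at *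
  exact pow_gcd_eq_one.2 ⟨hi, hj⟩

/-- a divisor of `wn q i` prime to `q + 1` -/
theorem mul_le_of_dvd {a q i : ℕ} (hq : 2 ≤ q) (hi : 1 ≤ i) (h : a ∣ wn q i) (hc : Nat.Coprime a (q + 1)) :
    a * (q + 1) ≤ q ^ i + 1 := by
  have h1 : q + 1 ∣ wn q i := Dvd.intro_left _ (nn_mul q i)
  have h2 : a * (q + 1) ∣ wn q i := hc.mul_dvd_of_dvd_of_dvd h h1
  have h3 : q ^ 1 ≤ q ^ i := Nat.pow_le_pow_right (by omega) hi
  rw [pow_one] at h3
  have h4 := le_wn (q := q) (m := i) (by omega)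
  exact (Nat.le_of_dvd (by omega) h2).trans (wn_le (by omega))

/-- the bound for `p` prime to `q + 1` -/
theorem sq_le {p q n : ℕ} (hp : p.Prime) (hq : 2 ≤ q) (h1 : ¬ p ∣ q + 1)
    (h : p ^ 2 ∣ ∏ j ∈ Icc 2 n, wn q j) : p ^ 2 * (q + 1) ≤ q ^ n + 1 := by
  have hmono : ∀ i, i ≤ n → q ^ i ≤ q ^ n := fun i hi => Nat.pow_le_pow_right (by omega) hi
  have hcp : Nat.Coprime p (q + 1) := (Nat.Prime.coprime_iff_not_dvd hp).2 h1
  rcases Cfsg.Agent.H93.PReg.Num.sq_dvd_prod hp _ _ h with ⟨i, hi, hpi⟩ | ⟨i, hi, j, hj, hij, hpi, hpj⟩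
  · rw [mem_Icc] at hi
    have h2 := mul_le_of_dvd hq (by omega) hpi (Nat.Coprime.pow_left 2 hcp)
    have h3 := hmono i hi.2
    omega
  · rw [mem_Icc] at hi hj
    have hg := dvd_gcd hpi hpj
    have he0 : 0 < Nat.gcd i j := Nat.gcd_pos_of_pos_left _ (by omega)
    have h2e : 2 * Nat.gcd i j ≤ n := by
      obtain ⟨u, hu⟩ := Nat.gcd_dvd_left i j
      obtain ⟨v, hv⟩ := Nat.gcd_dvd_right i j
      have hu0 : u ≠ 0 := by rintro rfl; omega
      have hv0 : v ≠ 0 := by rintro rfl; omega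
      have huv : u ≠ v := by
        intro huv
        exact hij (hu.trans ((congrArg (Nat.gcd i j * ·) huv).trans hv.symm))
      rcases lt_or_gt_of_ne huv with hlt | hlt
      · have : 2 ≤ v := by omega
        have := Nat.mul_le_mul_left (Nat.gcd i j) this
        omega
      · have : 2 ≤ u := by omega
        have := Nat.mul_le_mul_left (Nat.gcd i j) this
        omega
    set e := Nat.gcd i j
    have h2 := mul_le_of_dvd hq he0 hg hcp
    have h3 := hmono (2 * e) h2e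
    have h5 : q ^ (2 * e) = (q ^ e) ^ 2 := by rw [mul_comm, pow_mul]
    have h6 : (p * (q + 1)) ^ 2 ≤ (q ^ e + 1) ^ 2 := Nat.pow_le_pow_left h2 2
    have h7 : (q ^ e + 1) ^ 2 ≤ (q + 1) * ((q ^ e) ^ 2 + 1) := by
      have : 1 ≤ q ^ e := Nat.one_le_pow _ _ (by omega)
      nlinarith
    have h8 : p ^ 2 * (q + 1) * (q + 1) ≤ ((q ^ e) ^ 2 + 1) * (q + 1) := by
      calc p ^ 2 * (q + 1) * (q + 1) = (p * (q + 1)) ^ 2 := by ring
        _ ≤ _ := h6.trans h7
        _ = _ := by ring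
    have h9 := Nat.le_of_mul_le_mul_right h8 (by omega)
    omega

/-- `Σ (-q)^i ≡ n` modulo a divisor of `q + 1` -/
theorem dvd_nn_of_dvd {p q n : ℕ} (h : p ∣ q + 1) : p ∣ nn q n ↔ p ∣ n := by
  unfold nn
  rw [← Int.natCast_dvd, ← ZMod.intCast_zmod_eq_zero_iff_dvd, ← ZMod.natCast_eq_zero_iff]
  push_cast
  have h1 : -(q : ZMod p) = 1 := by
    rw [← ZMod.natCast_eq_zero_iff] at h
    push_cast at h
    linear_combination -h
  rw [h1]
  simp

theorem not_dvd_nn_of_dvd {p q n : ℕ} (hp : p.Prime) (h : p ∣ q) (hn : 1 ≤ n) : ¬ p ∣ nn q n := by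
  unfold nn
  have : Fact p.Prime := ⟨hp⟩
  rw [← Int.natCast_dvd, ← ZMod.intCast_zmod_eq_zero_iff_dvd]
  push_cast
  rw [← ZMod.natCast_eq_zero_iff] at h
  obtain ⟨m, rfl⟩ : ∃ m, n = m + 1 := ⟨n - 1, by omega⟩
  rw [h, sum_range_succ']
  simp

theorem nn_pos {q n : ℕ} (hq : 2 ≤ q) (hn : 1 ≤ n) : 0 < nn q n := by
  rw [Nat.pos_iff_ne_zero]
  intro h
  have h1 := nn_mul q n
  rw [h, zero_mul] at h1
  have h2 := le_wn (q := q) (m := n) (by omega)
  have h3 : q ^ 1 ≤ q ^ n := Nat.pow_le_pow_right (by omega) hn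
  rw [pow_one] at h3
  omega

/-- `v_p(nn q n) = v_p(n)` if `p ∣ q + 1` -/
theorem factorization_nn {p q n : ℕ} (hp : p.Prime) (hp2 : p ≠ 2) (hq : 2 ≤ q) (hn : 1 ≤ n) (h : p ∣ q + 1) :
    (nn q n).factorization p = n.factorization p := by
  have hodd : Odd p := hp.odd_of_ne_two hp2
  have hF : Fact p.Prime := ⟨hp⟩
  have h1 := Int.emultiplicity_pow_sub_pow hp hodd (x := -(q : ℤ)) (y := 1) (by
    have : (p : ℤ) ∣ ((q + 1 : ℕ) : ℤ) := Int.natCast_dvd_natCast.2 h
    rw [show (-(q : ℤ) - 1) = -((q + 1 : ℕ) : ℤ) by push_cast; ring]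
    exact this.neg_right) (by
    intro h2
    rw [Int.dvd_neg, Int.natCast_dvd_natCast] at h2
    have := (Nat.dvd_add_right h2).1 h
    exact hp.one_lt.ne' (Nat.dvd_one.1 this)) n
  rw [one_pow, ← geom_sum_mul, emultiplicity_mul (Nat.prime_iff_prime_int.1 hp), add_comm] at h1
  have h3 : emultiplicity (p : ℤ) (-(q : ℤ) - 1) ≠ ⊤ := by
    rw [show (-(q : ℤ) - 1) = -((q + 1 : ℕ) : ℤ) by push_cast; ring, emultiplicity_neg, Int.natCast_emultiplicity]
    exact finiteMultiplicity_iff_emultiplicity_ne_top.1 (Nat.finiteMultiplicity_iff.2 ⟨hp.one_lt.ne', by omega⟩)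
  have h4 := ENat.add_right_injective_of_ne_top h3 h1
  rw [← Int.emultiplicity_natAbs] at h4
  change emultiplicity p (nn q n) = _ at h4
  rw [← padicValNat_eq_emultiplicity (nn_pos hq hn).ne', ← padicValNat_eq_emultiplicity (by omega)] at h4
  rw [Nat.factorization_def _ hp, Nat.factorization_def _ hp]
  exact_mod_cast h4

/-! ### the bounds -/

/-- `n |W|` -/
def dd (n q f : ℕ) : ℕ := n * (Nat.gcd n (q + 1) * (2 * f))

/-- the bound for the first torus -/
def B1 (n q f p : ℕ) : Prop := (p - 1) * dd n q f * p ^ (nn q n).factorization p < nn q n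

/-- the bound for the second torus -/
def B2 (n q f p : ℕ) : Prop := (p - 1) * dd n q f * p ^ (wn q (n - 1)).factorization p < wn q (n - 1)

/-- the sufficient condition -/
def J (n q f : ℕ) : Prop := 4 * n ^ 4 * f ^ 2 * (q + 1) ≤ q ^ n - 1 ∧ 2 * n ^ 2 * f * q * (q + 1) < q ^ n - 1

theorem dd_le {n q f : ℕ} (hn : 1 ≤ n) : dd n q f ≤ 2 * n ^ 2 * f := by
  have h : Nat.gcd n (q + 1) ≤ n := Nat.gcd_le_left _ (by omega)
  calc dd n q f = n * (2 * f) * Nat.gcd n (q + 1) := by unfold dd; ring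
    _ ≤ n * (2 * f) * n := Nat.mul_le_mul_left _ h
    _ = _ := by ring

theorem J_step {n q f : ℕ} (hq : 2 ≤ q) (h : (n + 1) ^ 4 ≤ q * n ^ 4) (h2 : (n + 1) ^ 2 ≤ q * n ^ 2)
    (hJ : J n q f) : J (n + 1) q f := by
  obtain ⟨h3, h4⟩ := hJ
  have h5 : 1 ≤ q ^ n := Nat.one_le_pow _ _ (by omega)
  have h6 : q * (q ^ n - 1) ≤ q ^ (n + 1) - 1 := by
    rw [pow_succ, mul_comm (q ^ n) q, Nat.mul_sub, mul_one]
    omega
  constructor
  · calc 4 * (n + 1) ^ 4 * f ^ 2 * (q + 1) = (n + 1) ^ 4 * (4 * f ^ 2 * (q + 1)) := by ring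
      _ ≤ q * n ^ 4 * (4 * f ^ 2 * (q + 1)) := Nat.mul_le_mul_right _ h
      _ = q * (4 * n ^ 4 * f ^ 2 * (q + 1)) := by ring
      _ ≤ q * (q ^ n - 1) := Nat.mul_le_mul_left _ h3
      _ ≤ _ := h6
  · calc 2 * (n + 1) ^ 2 * f * q * (q + 1) = (n + 1) ^ 2 * (2 * f * q * (q + 1)) := by ring
      _ ≤ q * n ^ 2 * (2 * f * q * (q + 1)) := Nat.mul_le_mul_right _ h2
      _ = q * (2 * n ^ 2 * f * q * (q + 1)) := by ring
      _ < q * (q ^ n - 1) := (Nat.mul_lt_mul_left (by omega)).2 h4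
      _ ≤ _ := h6

theorem fac_eq_zero {p N : ℕ} (h : ¬ p ∣ N) : p ^ N.factorization p = 1 := by
  rw [Nat.factorization_eq_zero_of_not_dvd h, pow_zero]

/-- `J` suffices -/
theorem B_of_J {n q f p : ℕ} (hp : p.Prime) (hp5 : 5 ≤ p) (hq : 2 ≤ q) (hn : 3 ≤ n) (hf : 1 ≤ f) (hJ : J n q f)
    (h : p ∣ q ∨ p ^ 2 ∣ ∏ j ∈ Icc 2 n, wn q j) : B1 n q f p ∨ B2 n q f p := by
  obtain ⟨hJ1, hJ2⟩ := hJ
  have hdd := dd_le (q := q) (f := f) (show 1 ≤ n by omega)
  have hnn := nn_mul q n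
  have hwn := le_wn (q := q) (m := n) (by omega)
  -- `p ≤ q + 1`, `p ∤ nn q n`
  have key1 : p ≤ q + 1 → ¬ p ∣ nn q n → B1 n q f p := by
    intro hle hnd
    unfold B1
    rw [fac_eq_zero hnd, mul_one]
    have h1 : (p - 1) * dd n q f * (q + 1) < nn q n * (q + 1) := by
      calc (p - 1) * dd n q f * (q + 1) ≤ q * (2 * n ^ 2 * f) * (q + 1) :=
            Nat.mul_le_mul_right _ (Nat.mul_le_mul (by omega) hdd)
        _ = 2 * n ^ 2 * f * q * (q + 1) := by ring
        _ < q ^ n - 1 := hJ2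
        _ ≤ nn q n * (q + 1) := by rw [hnn]; exact hwn
    exact Nat.lt_of_mul_lt_mul_right h1
  by_cases hpq : p ∣ q
  · exact Or.inl (key1 (by have := Nat.le_of_dvd (by omega) hpq; omega) (not_dvd_nn_of_dvd hp hpq (by omega)))
  have h := h.resolve_left hpq
  by_cases hpq1 : p ∣ q + 1
  · have hle := Nat.le_of_dvd (by omega) hpq1
    by_cases hpn : p ∣ n
    · left
      unfold B1
      rw [factorization_nn hp (by omega) hq (by omega) hpq1]
      have h1 : p ^ n.factorization p ≤ n := Nat.le_of_dvd (by omega) (Nat.ordProj_dvd _ _)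
      have h2 : p ≤ n := Nat.le_of_dvd (by omega) hpn
      have h3 : (p - 1) * dd n q f * p ^ n.factorization p * (q + 1) < nn q n * (q + 1) := by
        calc (p - 1) * dd n q f * p ^ n.factorization p * (q + 1) ≤ n * (2 * n ^ 2 * f) * n * (q + 1) :=
              Nat.mul_le_mul_right _ (Nat.mul_le_mul (Nat.mul_le_mul (by omega) hdd) h1)
          _ = 2 * n ^ 4 * f * (q + 1) := by ring
          _ < 4 * n ^ 4 * f ^ 2 * (q + 1) := by
              have h4 : 0 < n ^ 4 * f * (q + 1) := by positivity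
              have h5 : n ^ 4 * f * (q + 1) * 1 ≤ n ^ 4 * f * (q + 1) * f := Nat.mul_le_mul_left _ hf
              calc 2 * n ^ 4 * f * (q + 1) = 2 * (n ^ 4 * f * (q + 1) * 1) := by ring
                _ ≤ 2 * (n ^ 4 * f * (q + 1) * f) := Nat.mul_le_mul_left _ h5
                _ < 4 * (n ^ 4 * f * (q + 1) * f) := by omega
                _ = _ := by ring
          _ ≤ q ^ n - 1 := hJ1
          _ ≤ nn q n * (q + 1) := by rw [hnn]; exact hwn
      exact Nat.lt_of_mul_lt_mul_right h3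
    · exact Or.inl (key1 hle (by rw [dvd_nn_of_dvd hpq1]; exact hpn))
  · -- `p ∤ q (q + 1)`
    have hsq := sq_le hp hq hpq1 h
    have key : ∀ N : ℕ, q ^ n - 1 ≤ N * (q + 1) → (p - 1) * dd n q f < N := by
      intro N hN
      have h1 : (p - 1) * (p - 1) * (q + 1) < q ^ n - 1 := by
        obtain ⟨a, rfl⟩ : ∃ a, p = a + 5 := ⟨p - 5, by omega⟩
        have h2 : (a + 5 - 1) * (a + 5 - 1) * (q + 1) + 9 * (q + 1) ≤ (a + 5) ^ 2 * (q + 1) := by
          have : (a + 5 - 1) = a + 4 := by omega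
          rw [this, ← add_mul]
          apply Nat.mul_le_mul_right
          ring_nf
          omega
        omega
      have h2 : dd n q f * dd n q f * (q + 1) ≤ q ^ n - 1 := by
        calc dd n q f * dd n q f * (q + 1) ≤ (2 * n ^ 2 * f) * (2 * n ^ 2 * f) * (q + 1) :=
              Nat.mul_le_mul_right _ (Nat.mul_le_mul hdd hdd)
          _ = 4 * n ^ 4 * f ^ 2 * (q + 1) := by ring
          _ ≤ _ := hJ1
      by_contra hcon
      push Not at hcon
      have h3 : (q ^ n - 1) * (q ^ n - 1) ≤ ((p - 1) * dd n q f * (q + 1)) * ((p - 1) * dd n q f * (q + 1)) := by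
        have := hN.trans (Nat.mul_le_mul_right (q + 1) hcon)
        exact Nat.mul_le_mul this this
      have h0 : 0 < q ^ n - 1 := by omega
      have h4 : ((p - 1) * dd n q f * (q + 1)) * ((p - 1) * dd n q f * (q + 1)) < (q ^ n - 1) * (q ^ n - 1) := by
        calc ((p - 1) * dd n q f * (q + 1)) * ((p - 1) * dd n q f * (q + 1)) =
              ((p - 1) * (p - 1) * (q + 1)) * (dd n q f * dd n q f * (q + 1)) := by ring
          _ ≤ ((p - 1) * (p - 1) * (q + 1)) * (q ^ n - 1) := Nat.mul_le_mul_left _ h2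
          _ < (q ^ n - 1) * (q ^ n - 1) := (Nat.mul_lt_mul_right h0).2 h1
      omega
    by_cases hpn : p ∣ nn q n
    · right
      unfold B2
      have hnd : ¬ p ∣ wn q (n - 1) := by
        intro hd
        have h1 : p ∣ wn q n := by rw [← hnn]; exact hpn.mul_right _
        have h2 := dvd_gcd h1 hd
        have h3 : Nat.gcd n (n - 1) = 1 := by
          obtain ⟨m, rfl⟩ : ∃ m, n = m + 1 := ⟨n - 1, by omega⟩
          simp
        rw [h3, wn_one] at h2
        exact hpq1 h2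
      rw [fac_eq_zero hnd, mul_one]
      apply key
      have h1 := le_wn (q := q) (m := n - 1) (by omega)
      have h2 : q ^ 1 ≤ q ^ (n - 1) := Nat.pow_le_pow_right (by omega) (by omega)
      have h3 : q ^ n = q ^ (n - 1) * q := by rw [← pow_succ]; congr 1; omega
      calc q ^ n - 1 ≤ (q ^ (n - 1) - 1) * (q + 1) := by
            rw [h3, Nat.sub_mul, Nat.mul_add]
            rw [pow_one] at h2
            omega
        _ ≤ _ := Nat.mul_le_mul_right _ h1
    · left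
      unfold B1
      rw [fac_eq_zero hpn, mul_one]
      apply key
      rw [hnn]
      exact hwn

/-! ### the small cases -/

def wnb (q m : ℕ) : ℕ := bif m % 2 == 0 then q ^ m - 1 else q ^ m + 1

theorem wnb_eq {q m : ℕ} (hq : 1 ≤ q) : wnb q m = wn q m := by
  unfold wnb
  rcases Nat.even_or_odd m with h | h
  · rw [wn_even hq h, Nat.even_iff.1 h]; rfl
  · rw [wn_odd h, Nat.odd_iff.1 h]; rfl

def prodw (q : ℕ) : ℕ → ℕ
  | 0 => 1
  | n + 1 => prodw q n * (bif n == 0 then 1 else wnb q (n + 1))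

theorem prodw_eq {q : ℕ} (hq : 1 ≤ q) (n : ℕ) : prodw q n = ∏ j ∈ Icc 2 n, wn q j := by
  induction n with
  | zero => simp [prodw]
  | succ n ih =>
    rw [prodw, ih]
    rcases n with _ | n
    · simp
    · rw [Finset.prod_Icc_succ_top (by omega : 2 ≤ n + 1 + 1), wnb_eq hq]
      rfl

/-- the exceptions -/
def exc (n q p : ℕ) : Bool :=
  (n == 9 && q == 2 && p == 5) || (n == 3 && q == 4 && p == 5) || (n == 4 && q == 4 && p == 5) ||
  (n == 5 && q == 4 && p == 5) || (n == 3 && q == 5 && p == 5) || (n == 3 && q == 11 && p == 11) ||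
  (n == 3 && q == 16 && p == 17) || (n == 3 && q == 17 && p == 17)

def chk (n q f p : ℕ) : Bool :=
  Nat.blt p 5 || [2, 3, 5, 7, 11, 13, 17, 19, 23, 29, 31].any (fun m => p % m == 0 && Nat.blt m p) ||
  !(q % p == 0 || prodw q n % (p * p) == 0) || exc n q p ||
  (Nat.blt (wnb q n / (q + 1)) (5 ^ 20) &&
    Nat.blt ((p - 1) * dd n q f * Nat.gcd (wnb q n / (q + 1)) (p ^ 20)) (wnb q n / (q + 1))) ||
  (Nat.blt (wnb q (n - 1)) (5 ^ 20) &&
    Nat.blt ((p - 1) * dd n q f * Nat.gcd (wnb q (n - 1)) (p ^ 20)) (wnb q (n - 1)))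

def Jb (n q f : ℕ) : Bool :=
  Nat.ble (4 * n ^ 4 * f ^ 2 * (q + 1)) (q ^ n - 1) && Nat.blt (2 * n ^ 2 * f * q * (q + 1)) (q ^ n - 1)

def chkn (n q f : ℕ) : Bool :=
  Jb n q f || (n == 3 && q == 2) || (Nat.blt (q ^ n + 1) (1000000 * (q + 1)) && (List.range 1000).all (chk n q f))

def chkq (r f : ℕ) : Bool :=
  Nat.ble 128 (r ^ f) || ((List.range 19).all (fun i => chkn (i + 3) (r ^ f) f) && Jb 22 (r ^ f) f)

def primes : List ℕ := [2, 3, 5, 7, 11, 13, 17, 19, 23, 29, 31, 37, 41, 43, 47, 53, 59, 61, 67, 71, 73, 79, 83, 89, 97,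
  101, 103, 107, 109, 113, 127]

theorem mem_primes {r : ℕ} (hr : r.Prime) (h : r < 128) : r ∈ primes := by
  have h2 := hr.two_le
  have key : ∀ r < 128, 2 ≤ r → (∀ m < r, 2 ≤ m → ¬ m ∣ r) → r ∈ primes := by decide +kernel
  refine key r h h2 fun m hm hm2 hd => ?_
  rcases (Nat.dvd_prime hr).1 hd with h1 | h1 <;> omega

theorem chk_all : (primes.all fun r => (List.range 6).all fun i => chkq r (i + 1)) = true := by decide +kernel

theorem J_of_Jb {n q f : ℕ} (h : Jb n q f = true) : J n q f := by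
  unfold Jb at h
  rw [Bool.and_eq_true] at h
  exact ⟨Nat.le_of_ble_eq_true h.1, Nat.le_of_ble_eq_true h.2⟩

theorem J_of_le {n₀ n q f : ℕ} (h : (n₀ + 1) ^ 4 ≤ q * n₀ ^ 4) (hq : 2 ≤ q) (hn₀ : 1 ≤ n₀)
    (hJ : J n₀ q f) (hle : n₀ ≤ n) : J n q f := by
  induction n, hle using Nat.le_induction with
  | base => exact hJ
  | succ n hn ih =>
    -- `(n + 1) n₀ ≤ n (n₀ + 1)`
    have h1 : (n + 1) * n₀ ≤ n * (n₀ + 1) := by nlinarith
    have h4 : (n + 1) ^ 4 ≤ q * n ^ 4 := by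
      have h2 : ((n + 1) * n₀) ^ 4 ≤ (n * (n₀ + 1)) ^ 4 := Nat.pow_le_pow_left h1 4
      have h3 : (n + 1) ^ 4 * n₀ ^ 4 ≤ q * n ^ 4 * n₀ ^ 4 := by
        calc (n + 1) ^ 4 * n₀ ^ 4 = ((n + 1) * n₀) ^ 4 := by ring
          _ ≤ (n * (n₀ + 1)) ^ 4 := h2
          _ = n ^ 4 * (n₀ + 1) ^ 4 := by ring
          _ ≤ n ^ 4 * (q * n₀ ^ 4) := Nat.mul_le_mul_left _ h
          _ = _ := by ring
      exact Nat.le_of_mul_le_mul_right h3 (by positivity)
    have h5 : (n + 1) ^ 2 ≤ q * n ^ 2 := by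
      have h6 : n ^ 2 ≤ (n + 1) ^ 2 := Nat.pow_le_pow_left (by omega) 2
      have h7 : 0 < n ^ 2 := Nat.pow_pos (by omega)
      have h8 : (n + 1) ^ 2 * n ^ 2 ≤ q * n ^ 2 * n ^ 2 := by
        calc (n + 1) ^ 2 * n ^ 2 ≤ (n + 1) ^ 2 * (n + 1) ^ 2 := Nat.mul_le_mul_left _ h6
          _ = (n + 1) ^ 4 := by ring
          _ ≤ q * n ^ 4 := h4
          _ = _ := by ring
      exact Nat.le_of_mul_le_mul_right h8 h7
    exact J_step hq h4 h5 ih

theorem J_large {q f : ℕ} (hq : 128 ≤ q) (hf : 2 ^ f ≤ q) : J 3 q f := by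
  have h18 : 18 * f ≤ q - 2 := by
    by_cases h : f < 7
    · omega
    · push Not at h
      have : ∀ f, 7 ≤ f → 18 * f + 2 ≤ 2 ^ f := by
        intro f hf
        induction f, hf using Nat.le_induction with
        | base => norm_num
        | succ f hf ih => rw [pow_succ]; omega
      have := this f h
      omega
  obtain ⟨a, rfl⟩ : ∃ a, q = a + 2 := ⟨q - 2, by omega⟩
  rw [Nat.add_sub_cancel] at h18
  constructor
  · have h1 : 18 * f * (18 * f) ≤ a * a := Nat.mul_le_mul h18 h18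
    have h2 : 4 * 3 ^ 4 * f ^ 2 * (a + 2 + 1) = 18 * f * (18 * f) * (a + 3) := by ring
    have h3 : a * a * (a + 3) + 1 ≤ (a + 2) ^ 3 := by ring_nf; nlinarith
    have h4 := Nat.mul_le_mul_right (a + 3) h1
    omega
  · have h2 : 2 * 3 ^ 2 * f * (a + 2) * (a + 2 + 1) = 18 * f * ((a + 2) * (a + 3)) := by ring
    have h4 := Nat.mul_le_mul_right ((a + 2) * (a + 3)) h18
    have h3 : a * ((a + 2) * (a + 3)) + 2 ≤ (a + 2) ^ 3 := by ring_nf; nlinarith
    omega

theorem pow_le_gcd {p N : ℕ} (hp5 : 5 ≤ p) (hN : 0 < N) (h : N < 5 ^ 20) : p ^ N.factorization p ≤ Nat.gcd N (p ^ 20) := by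
  have h1 : p ^ N.factorization p ≤ N := Nat.le_of_dvd hN (Nat.ordProj_dvd _ _)
  have h2 : N.factorization p < 20 := by
    by_contra hcon
    push Not at hcon
    have h3 : 5 ^ 20 ≤ p ^ N.factorization p :=
      (Nat.pow_le_pow_left hp5 20).trans (Nat.pow_le_pow_right (by omega) hcon)
    omega
  exact Nat.le_of_dvd (Nat.gcd_pos_of_pos_left _ hN)
    (Nat.dvd_gcd (Nat.ordProj_dvd _ _) (pow_dvd_pow _ h2.le))

theorem B_of_chk {n q f p : ℕ} (hp : p.Prime) (hp5 : 5 ≤ p) (hq : 2 ≤ q) (hn : 3 ≤ n)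
    (h : p ∣ q ∨ p ^ 2 ∣ ∏ j ∈ Icc 2 n, wn q j) (hc : chk n q f p = true) :
    exc n q p = true ∨ B1 n q f p ∨ B2 n q f p := by
  unfold chk at hc
  simp only [Bool.or_eq_true, Bool.and_eq_true] at hc
  have hw1 : wnb q n / (q + 1) = nn q n := by
    rw [wnb_eq (by omega), ← nn_mul]
    exact Nat.mul_div_cancel _ (by omega)
  have hw2 : wnb q (n - 1) = wn q (n - 1) := wnb_eq (by omega)
  rw [hw1, hw2] at hc
  rcases hc with ((((hc | hc) | hc) | hc) | hc) | hc
  · have := Nat.le_of_ble_eq_true hc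
    omega
  · rw [List.any_eq_true] at hc
    obtain ⟨m, hm, hm2⟩ := hc
    rw [Bool.and_eq_true, beq_iff_eq] at hm2
    have h1 : m ∣ p := Nat.dvd_of_mod_eq_zero hm2.1
    have h2 : m < p := Nat.le_of_ble_eq_true hm2.2
    rcases (Nat.dvd_prime hp).1 h1 with rfl | rfl
    · simp at hm
    · omega
  · exfalso
    rw [Bool.not_eq_true', Bool.or_eq_false_iff] at hc
    rcases h with h | h
    · have := Nat.mod_eq_zero_of_dvd h
      simp [this] at hc
    · rw [← prodw_eq (by omega), sq] at h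
      have := Nat.mod_eq_zero_of_dvd h
      simp [this] at hc
  · exact Or.inl hc
  · right; left
    have h1 : nn q n < 5 ^ 20 := Nat.le_of_ble_eq_true hc.1
    have h2 : (p - 1) * dd n q f * Nat.gcd (nn q n) (p ^ 20) < nn q n := Nat.le_of_ble_eq_true hc.2
    exact lt_of_le_of_lt (Nat.mul_le_mul_left _ (pow_le_gcd hp5 (nn_pos hq (by omega)) h1)) h2
  · right; right
    have h1 : wn q (n - 1) < 5 ^ 20 := Nat.le_of_ble_eq_true hc.1
    have h2 : (p - 1) * dd n q f * Nat.gcd (wn q (n - 1)) (p ^ 20) < wn q (n - 1) := Nat.le_of_ble_eq_true hc.2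
    exact lt_of_le_of_lt (Nat.mul_le_mul_left _ (pow_le_gcd hp5 (by omega) h1)) h2

/-- **the arithmetic of the unitary row** -/
theorem num {r f n p : ℕ} (hr : r.Prime) (hf : 1 ≤ f) (hn : 3 ≤ n) (h32 : ¬ (n = 3 ∧ r ^ f = 2)) (hp : p.Prime)
    (hp5 : 5 ≤ p) (h : p ∣ r ^ f ∨ p ^ 2 ∣ ∏ j ∈ Icc 2 n, wn (r ^ f) j) :
    exc n (r ^ f) p = true ∨ B1 n (r ^ f) f p ∨ B2 n (r ^ f) f p := by
  have hr2 := hr.two_le
  have hq2f : 2 ^ f ≤ r ^ f := Nat.pow_le_pow_left hr2 f
  have hq2 : 2 ≤ r ^ f := by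
    have : 2 ^ 1 ≤ 2 ^ f := Nat.pow_le_pow_right (by norm_num) hf
    omega
  by_cases hlarge : 128 ≤ r ^ f
  · exact Or.inr (B_of_J hp hp5 hq2 hn hf (J_of_le (by norm_num; omega) hq2 (by norm_num) (J_large hlarge hq2f) hn) h)
  · push Not at hlarge
    have hrle : r < 128 := by
      have : r ^ 1 ≤ r ^ f := Nat.pow_le_pow_right (by omega) hf
      rw [pow_one] at this
      omega
    have hf6 : f < 7 := by
      by_contra hcon
      push Not at hcon
      have : 2 ^ 7 ≤ 2 ^ f := Nat.pow_le_pow_right (by norm_num) hcon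
      omega
    have h1 := List.all_eq_true.1 (List.all_eq_true.1 chk_all r (mem_primes hr hrle)) (f - 1)
      (List.mem_range.2 (by omega))
    rw [Nat.sub_add_cancel hf] at h1
    unfold chkq at h1
    rw [Bool.or_eq_true, Bool.and_eq_true] at h1
    rcases h1 with h1 | ⟨h1, h2⟩
    · have := Nat.le_of_ble_eq_true h1
      omega
    · by_cases hn22 : 22 ≤ n
      · exact Or.inr (B_of_J hp hp5 hq2 hn hf
          (J_of_le (le_trans (by norm_num) (Nat.mul_le_mul_right _ hq2)) hq2 (by norm_num) (J_of_Jb h2) hn22) h)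
      · have h3 := List.all_eq_true.1 h1 (n - 3) (List.mem_range.2 (by omega))
        rw [Nat.sub_add_cancel hn] at h3
        unfold chkn at h3
        simp only [Bool.or_eq_true, Bool.and_eq_true] at h3
        rcases h3 with (h3 | h3) | ⟨h3, h4⟩
        · exact Or.inr (B_of_J hp hp5 hq2 hn hf (J_of_Jb h3) h)
        · rw [beq_iff_eq, beq_iff_eq] at h3
          exact absurd h3 h32
        · have h5 : (r ^ f) ^ n + 1 < 1000000 * (r ^ f + 1) := Nat.le_of_ble_eq_true h3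
          have hp1000 : p < 1000 := by
            by_cases hpq : p ∣ r ^ f
            · have := Nat.le_of_dvd (by omega) hpq
              omega
            by_cases hpq1 : p ∣ r ^ f + 1
            · have := Nat.le_of_dvd (by omega) hpq1
              omega
            have h6 := sq_le hp hq2 hpq1 (h.resolve_left hpq)
            by_contra hcon
            push Not at hcon
            have h7 : 1000 ^ 2 * (r ^ f + 1) ≤ p ^ 2 * (r ^ f + 1) :=
              Nat.mul_le_mul_right _ (Nat.pow_le_pow_left hcon 2)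
            omega
          exact B_of_chk hp hp5 hq2 hn h (List.all_eq_true.1 h4 p (List.mem_range.2 hp1000))

end Cfsg.Agent.H700.PsuRow
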