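import Cfsg.Agent.H700.PsuRow.Tor
import Cfsg.Agent.H700.PsuRow.Num
import Cfsg.Agent.S0280
import Cfsg.Agent.BenderType.Inv

/-!
# **The unitary row of S4883**: `PSU_n(q)`, except `p = 17` in `PSU_3(16)`
-/

set_option autoImplicit false
set_option linter.unusedSectionVars false

namespace Cfsg.Agent.H700.PsuRow

open Polynomial Matrix Cfsg Cfsg.Agent.H93.PReg Cfsg.Agent.LieClassical.HermSiegel Cfsg.Agent.H92.KTools
open Cfsg.Agent.ClassicalGeometry.UnitAutBasic Cfsg.Agent.ClassicalGeometry.GUBasic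

/-- removing a prime not dividing the order of the eigenvalue -/
theorem remove_prime {F L : Type*} [Field F] [Field L] [Algebra F L] {ι : Type*} [Fintype ι] [DecidableEq ι]
    {H : Type*} [Group H] [Finite H] (ρ : H →* Matrix ι ι F) (t : H) (x : L) (hx : aeval x (ρ t).charpoly = 0)
    {ℓ : ℕ} (hℓ : ℓ.Prime) (h : ¬ ℓ ∣ orderOf x) :
    ∃ (t' : H) (x' : L), aeval x' (ρ t').charpoly = 0 ∧ orderOf x' = orderOf x ∧ orderOf t' ∣ orderOf t ∧
      ¬ ℓ ∣ orderOf t' := by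
  have ht0 : orderOf t ≠ 0 := (orderOf_pos t).ne'
  refine ⟨t ^ ℓ ^ (orderOf t).factorization ℓ, x ^ ℓ ^ (orderOf t).factorization ℓ, ?_, ?_, orderOf_pow_dvd _, ?_⟩
  · rw [map_pow]
    exact root_pow hx _
  · exact Nat.Coprime.orderOf_pow ((Nat.Coprime.pow_left _ ((Nat.Prime.coprime_iff_not_dvd hℓ).2 h)).symm)
  · rw [orderOf_pow_of_dvd (pow_ne_zero _ hℓ.ne_zero) (Nat.ordProj_dvd _ _)]
    exact Nat.not_dvd_ordCompl hℓ ht0

section

variable {K : Type} [Field K] [Fintype K] {n q : ℕ}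

/-- the order of the image in `PSU` -/
theorem dvd_of_root (hF : Fintype.card K = q ^ 2) (hn : 3 ≤ n) {L : Type*} [Field L] [Algebra K L] (t : SU n K q) (x : L)
    (hx : aeval x (ρ n K q t).charpoly = 0) : orderOf x ∣ orderOf (pr n K q t) * Nat.gcd n (q + 1) := by
  apply orderOf_dvd_of_pow_eq_one
  have h1 : t ^ orderOf (pr n K q t) ∈ Subgroup.center (SU n K q) := by
    have h2 : pr n K q (t ^ orderOf (pr n K q t)) = 1 := by rw [map_pow, pow_orderOf_eq_one]
    exact (QuotientGroup.eq_one_iff _).1 h2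
  have h3 : t ^ (orderOf (pr n K q t) * Nat.gcd n (q + 1)) = 1 := by
    rw [pow_mul, ← Cfsg.Agent.S0279.result hF n hn]
    have h4 : (⟨_, h1⟩ : Subgroup.center (SU n K q)) ^ Nat.card (Subgroup.center (SU n K q)) = 1 := pow_card_eq_one'
    exact congrArg Subtype.val h4
  have h5 := root_pow hx (orderOf (pr n K q t) * Nat.gcd n (q + 1))
  rw [← map_pow, h3, map_one, Matrix.charpoly_one, map_pow, map_sub, aeval_X, map_one] at h5
  exact sub_eq_zero.1 ((pow_eq_zero_iff (by rw [Fintype.card_fin]; omega)).1 h5)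

theorem hasOrd_of_root (hF : Fintype.card K = q ^ 2) (hn : 3 ≤ n) {L : Type*} [Field L] [Algebra K L] (t : SU n K q) (x : L)
    (hx : aeval x (ρ n K q t).charpoly = 0) {k : ℕ} (hk : k * Nat.gcd n (q + 1) ∣ orderOf x) : HasOrd (PSU n K q) k := by
  have h1 := hk.trans (dvd_of_root hF hn t x hx)
  have h2 : 0 < Nat.gcd n (q + 1) := Nat.gcd_pos_of_pos_left _ (by omega)
  have h3 : k ∣ orderOf (pr n K q t) := Nat.dvd_of_mul_dvd_mul_right h2 h1
  exact HasOrd.of_dvd ⟨_, rfl⟩ h3 (orderOf_pos _).ne'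

end

section

variable {K : Type} [Field K] [Fintype K] {n r f : ℕ}

instance finite_aut : Finite (K ≃+* K) := Finite.of_injective (fun g => (g : K → K)) DFunLike.coe_injective

theorem card_W (hr : r.Prime) (hf : 1 ≤ f) (hF : Fintype.card K = (r ^ f) ^ 2) (hn : 3 ≤ n) :
    Nat.card (Subgroup.center (SU n K (r ^ f)) × (K ≃+* K)) = Nat.gcd n (r ^ f + 1) * (2 * f) := by
  have : Fact r.Prime := ⟨hr⟩
  rw [Nat.card_prod, Cfsg.Agent.S0279.result hF n hn]
  congr 1
  refine Cfsg.Agent.Lib.FieldAutCard.card_ringAut (p := r) (by omega) ?_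
  rw [hF, ← pow_mul, mul_comm f 2]

theorem mo_one (hr : r.Prime) (hf : 1 ≤ f) (hF : Fintype.card K = (r ^ f) ^ 2) (hn : 3 ≤ n)
    (h32 : ¬ (n = 3 ∧ r ^ f = 2)) {p : ℕ} (hp : p.Prime) (h : B1 n (r ^ f) f p) : MO (Reg p) p (PSU n K (r ^ f)) := by
  obtain ⟨m, rfl⟩ : ∃ m, n = m + 1 := ⟨n - 1, by omega⟩
  obtain ⟨L, _, _, t, x, hx, hox⟩ := exists_one hF (m := m)
  have h1 : orderOf x = nn (r ^ f) (m + 1) := by
    rw [← nn_mul] at hox
    exact Nat.eq_of_mul_eq_mul_right (by omega) hox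
  refine MO.of_root' hp (ctl hF hn h32) t x hx ?_
  rw [card_W hr hf hF hn, Fintype.card_fin, h1]
  exact h

theorem mo_two (hr : r.Prime) (hf : 1 ≤ f) (hF : Fintype.card K = (r ^ f) ^ 2) (hn : 3 ≤ n)
    (h32 : ¬ (n = 3 ∧ r ^ f = 2)) {p : ℕ} (hp : p.Prime) (h : B2 n (r ^ f) f p) : MO (Reg p) p (PSU n K (r ^ f)) := by
  obtain ⟨m, rfl⟩ : ∃ m, n = m + 2 := ⟨n - 2, by omega⟩
  obtain ⟨L, _, _, t, x, hx, hox⟩ := exists_two hF (m := m)
  refine MO.of_root' hp (ctl hF hn h32) t x hx ?_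
  rw [card_W hr hf hF hn, Fintype.card_fin, hox]
  exact h

end

section order

variable {K : Type*} [Field K] [Fintype K] {n q : ℕ}

theorem prod_eq (hq : 1 ≤ q) (n : ℕ) : (∏ i ∈ Finset.range (n + 1), (if Even i then q ^ (i + 1) + 1 else q ^ (i + 1) - 1)) =
    (q + 1) * ∏ j ∈ Finset.Icc 2 (n + 1), wn q j := by
  induction n with
  | zero => simp
  | succ n ih =>
    rw [Finset.prod_range_succ, ih, Finset.prod_Icc_succ_top (by omega : 2 ≤ n + 1 + 1), mul_assoc]
    congr 2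
    split_ifs with h
    · exact (wn_odd h.add_one).symm
    · exact (wn_even hq (Nat.not_even_iff_odd.1 h).add_one).symm

theorem card_psu (hF : Fintype.card K = q ^ 2) (hn : 2 ≤ n) :
    Nat.gcd n (q + 1) * Nat.card (PSU n K q) = q ^ (n * (n - 1) / 2) * ∏ j ∈ Finset.Icc 2 n, wn q j := by
  have hq := two_le hF
  have h := Cfsg.Agent.S0280.result hF n hn
  obtain ⟨m, rfl⟩ : ∃ m, n = m + 1 := ⟨n - 1, by omega⟩
  rw [prod_eq (by omega)] at h
  have h2 : (q + 1) * (Nat.gcd (m + 1) (q + 1) * Nat.card (PSU (m + 1) K q)) =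
      (q + 1) * (q ^ ((m + 1) * (m + 1 - 1) / 2) * ∏ j ∈ Finset.Icc 2 (m + 1), wn q j) := by
    rw [mul_left_comm, h]; ring
  exact Nat.eq_of_mul_eq_mul_left (by omega) h2

theorem dvd_or (hF : Fintype.card K = q ^ 2) (hn : 2 ≤ n) {p : ℕ} (hp : p.Prime) (h : p ^ 2 ∣ Nat.card (PSU n K q)) :
    p ∣ q ∨ p ^ 2 ∣ ∏ j ∈ Finset.Icc 2 n, wn q j := by
  by_cases hpq : p ∣ q
  · exact Or.inl hpq
  · right
    have h1 : p ^ 2 ∣ q ^ (n * (n - 1) / 2) * ∏ j ∈ Finset.Icc 2 n, wn q j := by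
      rw [← card_psu hF hn]
      exact h.mul_left _
    exact (Nat.Coprime.pow _ _ ((Nat.Prime.coprime_iff_not_dvd hp).2 hpq)).dvd_of_dvd_mul_left h1

end order

/-! ### the exceptional cases -/

section exceptional

variable {K : Type} [Field K] [Fintype K]

instance finite_psu (n q : ℕ) : Finite (PSU n K q) := Quotient.finite _

/-- `PSU_3(4)`, `p = 5` -/
theorem mo_345 (hF : Fintype.card K = 4 ^ 2) : MO (Reg 5) 5 (PSU 3 K 4) := by
  have h := card_psu hF (n := 3) (by norm_num)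
  have e2 : wn 4 2 = 15 := by decide
  have e3 : wn 4 3 = 65 := by decide
  rw [show Finset.Icc 2 3 = {2, 3} by decide] at h
  norm_num [e2, e3] at h
  have hcard : Nat.card (PSU 3 K 4) = 62400 := by omega
  have h4 : HasOrd (PSU 3 K 4) 4 := by
    have hF' : Fintype.card K = (2 ^ 2) ^ 2 := by rw [hF]; norm_num
    obtain ⟨P⟩ := (inferInstance : Nonempty (Sylow 2 (PSU 3 K (2 ^ 2))))
    have hT := Cfsg.Agent.BenderType.Inv.ty_psu (n := 2) (by norm_num) hF' P
    have h1 : ∃ x : P, x * x ≠ 1 := by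
      by_contra hcon
      push Not at hcon
      have h2 := hT.inv
      have h3 : Nat.card {x : P // x * x = 1} = Nat.card P := Nat.card_congr
        { toFun := fun x => x.1, invFun := fun x => ⟨x, hcon x⟩, left_inv := fun _ => rfl, right_inv := fun _ => rfl }
      have h4 := hT.card.symm.trans (h3.symm.trans h2)
      norm_num at h4
    obtain ⟨x, hx⟩ := h1
    obtain ⟨k, hk⟩ := P.isPGroup' x
    have h5 : orderOf x ∣ 2 ^ k := orderOf_dvd_of_pow_eq_one hk
    obtain ⟨j, -, hj⟩ := (Nat.dvd_prime_pow Nat.prime_two).1 h5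
    have h6 : 2 ≤ j := by
      by_contra hcon
      push Not at hcon
      apply hx
      rw [← pow_two, ← orderOf_dvd_iff_pow_eq_one, hj]
      exact (pow_dvd_pow 2 (by omega : j ≤ 1)).trans (by norm_num)
    have h7 : 4 ∣ 2 ^ j := by
      have := pow_dvd_pow 2 h6
      norm_num at this
      exact this
    exact (HasOrd.of_dvd (m := 2 ^ j) ⟨x, hj⟩ h7 (by positivity)).of_subgroup
  refine (MO.of_finset {1, 2, 3, 4, 13} ?_ ?_).mono (le_refl _) (by decide)
  · simp only [Finset.mem_insert, Finset.mem_singleton, forall_eq_or_imp, forall_eq]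
    exact ⟨hasOrd_one _, hasOrd_prime (by norm_num) (by rw [hcard]; norm_num),
      hasOrd_prime (by norm_num) (by rw [hcard]; norm_num), h4, hasOrd_prime (by norm_num) (by rw [hcard]; norm_num)⟩
  · simp [Reg]

/-- `PSU_4(4)`, `p = 5` -/
theorem mo_445 (hF : Fintype.card K = 4 ^ 2) : MO (Reg 5) 5 (PSU 4 K 4) := by
  have h := card_psu hF (n := 4) (by norm_num)
  have e2 : wn 4 2 = 15 := by decide
  have e3 : wn 4 3 = 65 := by decide
  have e4 : wn 4 4 = 255 := by decide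
  rw [show Finset.Icc 2 4 = {2, 3, 4} by decide] at h
  norm_num [e2, e3, e4] at h
  have hcard : Nat.card (PSU 4 K 4) = 1018368000 := by omega
  refine (MO.of_finset {1, 2, 3, 13, 17} ?_ ?_).mono (le_refl _) (by decide)
  · simp only [Finset.mem_insert, Finset.mem_singleton, forall_eq_or_imp, forall_eq]
    refine ⟨hasOrd_one _, ?_, ?_, ?_, ?_⟩ <;> exact hasOrd_prime (by norm_num) (by rw [hcard]; norm_num)
  · simp [Reg]

/-- `PSU_5(4)`, `p = 5` -/
theorem mo_545 (hF : Fintype.card K = 4 ^ 2) : MO (Reg 5) 5 (PSU 5 K 4) := by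
  have h := card_psu hF (n := 5) (by norm_num)
  have e2 : wn 4 2 = 15 := by decide
  have e3 : wn 4 3 = 65 := by decide
  have e4 : wn 4 4 = 255 := by decide
  have e5 : wn 4 5 = 1025 := by decide
  rw [show Finset.Icc 2 5 = {2, 3, 4, 5} by decide] at h
  norm_num [e2, e3, e4, e5] at h
  have hcard : Nat.card (PSU 5 K 4) = 53443952640000 := by omega
  refine (MO.of_finset {1, 2, 3, 13, 17} ?_ ?_).mono (le_refl _) (by decide)
  · simp only [Finset.mem_insert, Finset.mem_singleton, forall_eq_or_imp, forall_eq]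
    refine ⟨hasOrd_one _, ?_, ?_, ?_, ?_⟩ <;> exact hasOrd_prime (by norm_num) (by rw [hcard]; norm_num)
  · simp [Reg]

/-- `PSU_9(2)`, `p = 5` -/
theorem mo_925 (hF : Fintype.card K = 2 ^ 2) : MO (Reg 5) 5 (PSU 9 K 2) := by
  have h := card_psu hF (n := 9) (by norm_num)
  have e2 : wn 2 2 = 3 := by decide
  have e3 : wn 2 3 = 9 := by decide
  have e4 : wn 2 4 = 15 := by decide
  have e5 : wn 2 5 = 33 := by decide
  have e6 : wn 2 6 = 63 := by decide
  have e7 : wn 2 7 = 129 := by decide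
  have e8 : wn 2 8 = 255 := by decide
  have e9 : wn 2 9 = 513 := by decide
  rw [show Finset.Icc 2 9 = {2, 3, 4, 5, 6, 7, 8, 9} by decide] at h
  norm_num [e2, e3, e4, e5, e6, e7, e8, e9] at h
  have key : ∀ ℓ : ℕ, ℓ.Prime → ℓ ≠ 3 → ℓ ∣ 3 * Nat.card (PSU 9 K 2) → ℓ ∣ Nat.card (PSU 9 K 2) := by
    intro ℓ hℓ h3 hd
    rcases (Nat.Prime.dvd_mul hℓ).1 hd with h4 | h4
    · exact absurd ((Nat.prime_dvd_prime_iff_eq hℓ Nat.prime_three).1 h4) h3
    · exact h4
  have h3 : 3 ∣ Nat.card (PSU 9 K 2) := by omega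
  refine (MO.of_finset {1, 2, 3, 7, 11} ?_ ?_).mono (le_refl _) (by decide)
  · simp only [Finset.mem_insert, Finset.mem_singleton, forall_eq_or_imp, forall_eq]
    refine ⟨hasOrd_one _, ?_, hasOrd_prime (by norm_num) h3, ?_, ?_⟩ <;>
      exact hasOrd_prime (by norm_num) (key _ (by norm_num) (by norm_num) (by rw [h]; norm_num))
  · simp [Reg]

/-- `PSU_3(5)`, `p = 5` -/
theorem mo_355 (hF : Fintype.card K = 5 ^ 2) : MO (Reg 5) 5 (PSU 3 K 5) := by
  have h := card_psu hF (n := 3) (by norm_num)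
  have e2 : wn 5 2 = 24 := by decide
  have e3 : wn 5 3 = 126 := by decide
  rw [show Finset.Icc 2 3 = {2, 3} by decide] at h
  norm_num [e2, e3] at h
  have hcard : Nat.card (PSU 3 K 5) = 126000 := by omega
  have h4 : HasOrd (PSU 3 K 5) 4 := by
    obtain ⟨L, _, _, t, x, hx, hox⟩ := exists_two hF (m := 1)
    refine hasOrd_of_root hF (by norm_num) t x hx ?_
    rw [hox, e2]
    norm_num
  refine (MO.of_finset {1, 2, 3, 4, 7} ?_ ?_).mono (le_refl _) (by decide)
  · simp only [Finset.mem_insert, Finset.mem_singleton, forall_eq_or_imp, forall_eq]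
    exact ⟨hasOrd_one _, hasOrd_prime (by norm_num) (by rw [hcard]; norm_num),
      hasOrd_prime (by norm_num) (by rw [hcard]; norm_num), h4, hasOrd_prime (by norm_num) (by rw [hcard]; norm_num)⟩
  · simp [Reg]

/-- `PSU_3(11)`, `p = 11` -/
theorem mo_311 (hF : Fintype.card K = 11 ^ 2) : MO (Reg 11) 11 (PSU 3 K 11) := by
  have e2 : wn 11 2 = 120 := by decide
  have e3 : wn 11 3 = 1332 := by decide
  -- the orders `2, 4, 5, 8`
  have hA : MO {2, 4, 5, 8} 4 (PSU 3 K 11) := by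
    obtain ⟨L, _, _, t, x, hx, hox⟩ := exists_two hF (m := 1)
    have key : ∀ k, k * 3 ∣ 120 → HasOrd (PSU 3 K 11) k := by
      intro k hk
      refine hasOrd_of_root hF (by norm_num) t x hx ?_
      rw [hox, e2]
      exact hk
    refine (MO.of_finset {2, 4, 5, 8} ?_ ?_).mono (le_refl _) (by decide)
    · simp only [Finset.mem_insert, Finset.mem_singleton, forall_eq_or_imp, forall_eq]
      exact ⟨key _ (by norm_num), key _ (by norm_num), key _ (by norm_num), key _ (by norm_num)⟩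
    · simp
  have hB : MO {k | ¬ 2 ∣ k ∧ ¬ 5 ∣ k ∧ ¬ 11 ∣ k} 7 (PSU 3 K 11) := by
    obtain ⟨L, _, _, t, x, hx, hox⟩ := exists_one hF (m := 2)
    have hox : orderOf x = 111 := by
      rw [e3] at hox
      omega
    obtain ⟨t1, x1, h1, h2, h3, h4⟩ := remove_prime _ t x hx Nat.prime_two (by rw [hox]; norm_num)
    obtain ⟨t2, x2, i1, i2, i3, i4⟩ := remove_prime _ t1 x1 h1 Nat.prime_five (by rw [h2, hox]; norm_num)
    obtain ⟨t3, x3, j1, j2, j3, j4⟩ := remove_prime _ t2 x2 i1 Nat.prime_eleven (by rw [i2, h2, hox]; norm_num)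
    rw [i2, h2, hox] at j2
    have hW := card_W (K := K) (n := 3) (r := 11) (f := 1) (by norm_num) le_rfl (by rw [hF]; norm_num) le_rfl
    refine MO.of_exps (ctl hF le_rfl (by norm_num)) t3 x3 j1 (Finset.range 111) ?_ ?_
    · intro k hk
      rw [j2]
      refine ⟨Finset.mem_range.1 hk, ?_⟩
      have h5 : orderOf (pr 3 K 11 (t3 ^ k)) ∣ orderOf t3 := (orderOf_map_dvd _ _).trans (orderOf_pow_dvd k)
      exact ⟨fun hd => h4 ((hd.trans h5).trans (j3.trans i3)), fun hd => i4 ((hd.trans h5).trans j3),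
        fun hd => j4 (hd.trans h5)⟩
    · rw [pow_one] at hW
      rw [hW, Fintype.card_fin, Finset.card_range]
      norm_num
  refine (MO.add ?_ hA hB).mono ?_ le_rfl
  · rw [Set.disjoint_left]
    rintro k hk ⟨h1, h2, h3⟩
    simp only [Set.mem_insert_iff, Set.mem_singleton_iff] at hk
    omega
  · rintro k (hk | ⟨h1, h2, h3⟩)
    · simp only [Set.mem_insert_iff, Set.mem_singleton_iff] at hk
      show ¬ 11 ∣ k
      omega
    · exact h3

/-- `PSU_3(17)`, `p = 17` -/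
theorem mo_317 (hF : Fintype.card K = 17 ^ 2) : MO (Reg 17) 17 (PSU 3 K 17) := by
  have e2 : wn 17 2 = 288 := by decide
  have e3 : wn 17 3 = 4914 := by decide
  have hA : MO {2} 1 (PSU 3 K 17) := by
    obtain ⟨L, _, _, t, x, hx, hox⟩ := exists_two hF (m := 1)
    refine MO.single (k := 2) (hasOrd_of_root hF (by norm_num) t x hx ?_) rfl
    rw [hox, e2]
    norm_num
  have hB : MO {k | ¬ 2 ∣ k ∧ ¬ 17 ∣ k} 16 (PSU 3 K 17) := by
    obtain ⟨L, _, _, t, x, hx, hox⟩ := exists_one hF (m := 2)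
    have hox : orderOf x = 273 := by
      rw [e3] at hox
      omega
    obtain ⟨t1, x1, h1, h2, h3, h4⟩ := remove_prime _ t x hx Nat.prime_two (by rw [hox]; norm_num)
    obtain ⟨t2, x2, i1, i2, i3, i4⟩ := remove_prime _ t1 x1 h1 (ℓ := 17) (by norm_num) (by rw [h2, hox]; norm_num)
    rw [h2, hox] at i2
    have hW := card_W (K := K) (n := 3) (r := 17) (f := 1) (by norm_num) le_rfl (by rw [hF]; norm_num) le_rfl
    refine MO.of_exps (ctl hF le_rfl (by norm_num)) t2 x2 i1 (Finset.range 273) ?_ ?_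
    · intro k hk
      rw [i2]
      refine ⟨Finset.mem_range.1 hk, ?_⟩
      have h5 : orderOf (pr 3 K 17 (t2 ^ k)) ∣ orderOf t2 := (orderOf_map_dvd _ _).trans (orderOf_pow_dvd k)
      exact ⟨fun hd => h4 ((hd.trans h5).trans i3), fun hd => i4 (hd.trans h5)⟩
    · rw [pow_one] at hW
      rw [hW, Fintype.card_fin, Finset.card_range]
      norm_num
  refine (MO.add ?_ hA hB).mono ?_ le_rfl
  · rw [Set.disjoint_left]
    rintro k hk ⟨h1, h2⟩
    rw [Set.mem_singleton_iff] at hk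
    omega
  · rintro k (hk | ⟨h1, h2⟩)
    · rw [Set.mem_singleton_iff] at hk
      show ¬ 17 ∣ k
      omega
    · exact h2

end exceptional

/-- **the unitary row** -/
theorem mo_psu {K : Type} [Field K] [Fintype K] {n q : ℕ} (hF : Fintype.card K = q ^ 2) (hn : 3 ≤ n)
    (h32 : ¬ (n = 3 ∧ q = 2)) {p : ℕ} (hp : p.Prime) (hp5 : 5 ≤ p) (hd : p ^ 2 ∣ Nat.card (PSU n K q))
    (hex : ¬ (n = 3 ∧ q = 16 ∧ p = 17)) : MO (Reg p) p (PSU n K q) := by
  obtain ⟨r, f, hr, hf, rfl⟩ : ∃ r f : ℕ, r.Prime ∧ 1 ≤ f ∧ q = r ^ f := by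
    obtain ⟨r, hrc⟩ := CharP.exists K
    obtain ⟨k, hr, hk⟩ := FiniteField.card K r
    have h1 : q ∣ r ^ (k : ℕ) := by rw [← hk, hF]; exact dvd_pow_self q two_ne_zero
    obtain ⟨f, -, hf⟩ := (Nat.dvd_prime_pow hr).1 h1
    refine ⟨r, f, hr, Nat.one_le_iff_ne_zero.2 ?_, hf⟩
    rintro rfl
    have := two_le hF
    rw [pow_zero] at hf
    omega
  rcases num hr hf hn h32 hp hp5 (dvd_or hF (by omega) hp hd) with h | h | h
  · generalize r ^ f = q at *
    simp only [exc, Bool.or_eq_true, Bool.and_eq_true, beq_iff_eq] at h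
    rcases h with ((((((⟨⟨rfl, rfl⟩, rfl⟩ | ⟨⟨rfl, rfl⟩, rfl⟩) | ⟨⟨rfl, rfl⟩, rfl⟩) | ⟨⟨rfl, rfl⟩, rfl⟩) |
      ⟨⟨rfl, rfl⟩, rfl⟩) | ⟨⟨rfl, rfl⟩, rfl⟩) | ⟨⟨rfl, rfl⟩, rfl⟩) | ⟨⟨rfl, rfl⟩, rfl⟩
    · exact mo_925 hF
    · exact mo_345 hF
    · exact mo_445 hF
    · exact mo_545 hF
    · exact mo_355 hF
    · exact mo_311 hF
    · exact absurd ⟨rfl, rfl, rfl⟩ hex
    · exact mo_317 hF
  · exact mo_one hr hf hF hn h32 hp h
  · exact mo_two hr hf hF hn h32 hp h

/-- **the unitary row** in terms of `Row` -/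
theorem row_psu {K : Type} [Field K] [Fintype K] {n q : ℕ} (hF : Fintype.card K = q ^ 2) (hn : 3 ≤ n)
    (h32 : ¬ (n = 3 ∧ q = 2)) (h316 : ¬ (n = 3 ∧ q = 16)) : Row (PSU n K q) := fun _ hp hp5 hd =>
  mo_psu hF hn h32 hp hp5 hd fun h => h316 ⟨h.1, h.2.1⟩

end Cfsg.Agent.H700.PsuRow
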